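import Cfsg.Agent.H25.FixedGeneration
import Cfsg.Agent.Lib.OddOrderGlue.Basic

/-!
The statement of row 1329, given the solvability of groups of odd order.
-/

set_option autoImplicit false

namespace Cfsg.Agent.H25

open Cfsg.Agent
open scoped commutatorElement

universe u

theorem fixed_generation_odd (hFT : OddOrderGlue.FeitThompson.{u}) {G : Type u} [Group G] [Finite G]
    (A B Y : Subgroup G) (hA2 : IsPGroup 2 ↥A) (hAc : IsMulCommutative ↥A) (hB : B ≤ A)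
    (hYodd : Odd (Nat.card ↥Y)) (hAY : A ≤ Subgroup.normalizer (Y : Set G)) (hYA : ⁅Y, A⁆ = Y) :
    Y ⊓ Subgroup.centralizer (B : Set G) =
      ⨆ B₀ : {B₀ : Subgroup G // B₀ ≤ B ∧ ∀ [(B₀.subgroupOf B).Normal], IsCyclic (↥B ⧸ B₀.subgroupOf B)},
        Y ⊓ Subgroup.centralizer (B : Set G) ⊓
          ⁅Y ⊓ Subgroup.centralizer ((B₀ : Subgroup G) : Set G), A⁆ := by
  haveI : Fact (Nat.Prime 2) := ⟨Nat.prime_two⟩
  haveI : IsMulCommutative B := ⟨⟨fun a b => Subtype.ext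
    (congrArg Subtype.val (hAc.is_comm.comm (⟨(a : G), hB a.2⟩ : A) ⟨b, hB b.2⟩) : _)⟩⟩
  obtain ⟨k, hk⟩ := IsPGroup.iff_card.mp hA2
  have hcop : (Nat.card A).Coprime (Nat.card Y) := by
    rw [hk]; exact (Nat.coprime_two_left.mpr hYodd).pow_left k
  refine le_antisymm ?_ (iSup_le fun _ => inf_le_left)
  refine (inf_centralizer_eq_fixedGen hAc hB (hFT Y hYodd) hAY hcop hYA).le.trans ?_
  refine iSup₂_le fun B₀ hB₀ => ?_
  exact le_iSup (fun B₀ : {B₀ : Subgroup G // B₀ ≤ B ∧ ∀ [(B₀.subgroupOf B).Normal],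
      IsCyclic (↥B ⧸ B₀.subgroupOf B)} => Y ⊓ Subgroup.centralizer (B : Set G) ⊓
        ⁅Y ⊓ Subgroup.centralizer ((B₀ : Subgroup G) : Set G), A⁆)
    ⟨B₀, hB₀.1, isCyclic_quotient_of_cocyclic hB₀⟩

end Cfsg.Agent.H25
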