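import Cfsg.Agent.H25.FixedGeneration
import Cfsg.Agent.Lib.OddOrderGlue.Basic
import Cfsg.Agent.Lib.Components.PermuteComponents
import Cfsg.Agent.Lib.Components.LBalance
import Cfsg.Agent.Lib.Components.Balance
import Cfsg.Prelude.Def_Balance

/-!
The signalizer functor attached to a core-separated pair of four-groups.
-/

set_option autoImplicit false

namespace Cfsg.Agent.H25

open Cfsg.Agent
open scoped commutatorElement IsMulCommutative

universe u

section CoreFree

variable {G : Type u} [Group G] [Finite G]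

/-- An element centralizing `F*(G)` in a core-free group lies in `O₂(G)`. -/
theorem mem_pCore_of_centralizes (hO : Cfsg.pPrimeCore 2 G = ⊥) {x : G}
    (hE : ∀ E : Subgroup G, Cfsg.IsComponent E → x ∈ Subgroup.centralizer (E : Set G))
    (hP : x ∈ Subgroup.centralizer (Cfsg.pCore 2 G : Set G)) : x ∈ Cfsg.pCore 2 G := by
  haveI : Fact (Nat.Prime 2) := ⟨Nat.prime_two⟩
  have hx : x ∈ Subgroup.centralizer (Cfsg.generalizedFittingSubgroup G : Set G) := by
    have h1 : Cfsg.generalizedFittingSubgroup G ≤ Subgroup.centralizer ({x} : Set G) := by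
      rw [Cfsg.generalizedFittingSubgroup, Components.fitting_eq_pCore_of_pPrimeCore_eq_bot hO]
      refine sup_le (Components.layer_le_iff.mpr fun E hE' e he => ?_) fun e he => ?_
      · exact Subgroup.mem_centralizer_singleton_iff.mpr
          (Subgroup.mem_centralizer_iff.mp (hE E hE') e he)
      · exact Subgroup.mem_centralizer_singleton_iff.mpr
          (Subgroup.mem_centralizer_iff.mp hP e he)
    exact Subgroup.mem_centralizer_iff.mpr fun y hy => Subgroup.mem_centralizer_singleton_iff.mp (h1 hy)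
  have h1 := Components.centralizer_generalizedFitting_le hx
  let A := Subgroup.centralizer (Cfsg.generalizedFittingSubgroup G : Set G) ⊓
    Cfsg.generalizedFittingSubgroup G
  haveI hAc : IsMulCommutative A := ⟨⟨fun a b => Subtype.ext
    (Subgroup.mem_centralizer_iff.mp b.2.1 a a.2.2)⟩⟩
  rw [← Components.fitting_eq_pCore_of_pPrimeCore_eq_bot hO]
  exact Fitting.le_fitting (inferInstance : A.Normal) inferInstance ⟨hx, h1⟩

/-- In a core-free group, an element of `O(C(a))` centralizing every component is trivial. -/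
theorem eq_one_of_centralizes (hO : Cfsg.pPrimeCore 2 G = ⊥) {a : G} (ha : orderOf a = 2)
    {x : G} (hx : x ∈ Cfsg.centralizerPPrimeCore 2 a)
    (hE : ∀ E : Subgroup G, Cfsg.IsComponent E → x ∈ Subgroup.centralizer (E : Set G)) : x = 1 := by
  haveI : Fact (Nat.Prime 2) := ⟨Nat.prime_two⟩
  have hp : IsPGroup 2 (Subgroup.zpowers a) :=
    IsPGroup.of_card (n := 1) (by rw [Nat.card_zpowers, ha, pow_one])
  have hc : x ∈ Subgroup.centralizer (Cfsg.pCore 2 G : Set G) :=
    ((Components.centralizerPPrimeCore_le_localLayerCover (p := 2) a).trans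
      (Components.localLayerCover_le_centralizer_pCore hp)) hx
  have h3 := Thompson.inf_eq_bot_of_isPGroup_of_coprime (Thompson.isPGroup_pCore (p := 2) (G := G))
    (Components.centralizerPPrimeCore_coprime (p := 2) a)
  exact Subgroup.mem_bot.mp (h3 ▸ ⟨mem_pCore_of_centralizes hO hE hc, hx⟩)

/-- The odd core of `C(a)` normalizes every component. -/
theorem mem_normalizer_component (hO : Cfsg.pPrimeCore 2 G = ⊥) {a : G} (ha : orderOf a = 2)
    {x : G} (hx : x ∈ Cfsg.centralizerPPrimeCore 2 a) {E : Subgroup G} (hE : Cfsg.IsComponent E) :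
    x ∈ Subgroup.normalizer (E : Set G) := by
  haveI : Fact (Nat.Prime 2) := ⟨Nat.prime_two⟩
  exact ((Components.centralizerPPrimeCore_le_localLayerCover (p := 2) a).trans
    (Components.localLayerCover_le_normalizer_component hO
      (IsPGroup.of_card (n := 1) (by rw [Nat.card_zpowers, ha, pow_one])) hE)) hx

/-- Core-free key step: an element of `O(C(a)) ∩ C(B)` centralizing the components centralized
by `B` lies in the odd core of `C(B)`, if the other components are centralized by `B'`. -/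
theorem mem_oddCore_centralizer (hO : Cfsg.pPrimeCore 2 G = ⊥) {B B' : Subgroup G} {a b b' : G}
    (hb : b ∈ B) (hb' : b' ∈ B') (hbB : B ≤ Subgroup.centralizer (B : Set G))
    (hbb : B' ≤ Subgroup.centralizer (B : Set G)) (hab : a = b * b') (ha : orderOf a = 2)
    (hsep : ∀ E : Subgroup G, Cfsg.IsComponent E →
      B ≤ Subgroup.centralizer (E : Set G) ∨ B' ≤ Subgroup.centralizer (E : Set G))
    {x : G} (hx : x ∈ Cfsg.centralizerPPrimeCore 2 a) (hxB : x ∈ Subgroup.centralizer (B : Set G))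
    (hxE : ∀ E : Subgroup G, Cfsg.IsComponent E → B ≤ Subgroup.centralizer (E : Set G) →
      x ∈ Subgroup.centralizer (E : Set G)) :
    x ∈ (Cfsg.oddCore ↥(Subgroup.centralizer (B : Set G))).map
      (Subgroup.centralizer (B : Set G)).subtype := by
  haveI : Fact (Nat.Prime 2) := ⟨Nat.prime_two⟩
  set C := Subgroup.centralizer (B : Set G) with hC
  set U := Cfsg.pCore 2 G with hU
  have haC : a ∈ C := hab ▸ mul_mem (hbB hb) (hbb hb')
  -- components centralized by `B` are permuted by `C`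
  have hperm : ∀ c ∈ C, ∀ E : Subgroup G, B ≤ Subgroup.centralizer (E : Set G) →
      B ≤ Subgroup.centralizer ((E.map (MulAut.conj c).toMonoidHom : Subgroup G) : Set G) := by
    intro c hc E hE y hy
    rw [Subgroup.mem_centralizer_iff]
    rintro _ ⟨e, he, rfl⟩
    have h1 : y * c = c * y := Subgroup.mem_centralizer_iff.mp hc y hy
    have h2 : e * y = y * e := Subgroup.mem_centralizer_iff.mp (hE hy) e he
    show c * e * c⁻¹ * y = y * (c * e * c⁻¹)
    calc c * e * c⁻¹ * y = c * e * (c⁻¹ * (y * c)) * c⁻¹ := by group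
      _ = c * (e * y) * c⁻¹ := by rw [h1]; group
      _ = (c * y) * e * c⁻¹ := by rw [h2]; group
      _ = y * (c * e * c⁻¹) := by rw [← h1]; group
  let N : Subgroup G := C ⊓ Subgroup.centralizer (U : Set G) ⊓
    ⨅ E : {E : Subgroup G // Cfsg.IsComponent E ∧ B ≤ Subgroup.centralizer (E : Set G)},
      Subgroup.centralizer ((E : Subgroup G) : Set G)
  have hNmem : ∀ {n : G}, n ∈ N ↔ n ∈ C ∧ n ∈ Subgroup.centralizer (U : Set G) ∧
      ∀ E : Subgroup G, Cfsg.IsComponent E → B ≤ Subgroup.centralizer (E : Set G) →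
        n ∈ Subgroup.centralizer (E : Set G) := by
    intro n
    simp only [N, Subgroup.mem_inf, Subgroup.mem_iInf]
    exact ⟨fun h => ⟨h.1.1, h.1.2, fun E h1 h2 => h.2 ⟨E, h1, h2⟩⟩,
      fun h => ⟨⟨h.1, h.2.1⟩, fun E => h.2.2 E E.2.1 E.2.2⟩⟩
  have hNC : C ≤ Subgroup.normalizer (N : Set G) := by
    refine Coprime.le_normalizer_of_conj_mem fun c hc n hn => ?_
    obtain ⟨h1, h2, h3⟩ := hNmem.mp hn
    refine hNmem.mpr ⟨mul_mem (mul_mem hc h1) (inv_mem hc),
      (inferInstance : (Subgroup.centralizer (U : Set G)).Normal).conj_mem n h2 c, fun E hE hBE => ?_⟩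
    rw [Subgroup.mem_centralizer_iff]
    intro e he
    have h4 := Subgroup.mem_centralizer_iff.mp (h3 _ (Components.component_map_conj c⁻¹ hE)
      (hperm c⁻¹ (inv_mem hc) E hBE)) (c⁻¹ * e * c) ⟨e, he, by simp⟩
    calc e * (c * n * c⁻¹) = c * ((c⁻¹ * e * c) * n) * c⁻¹ := by group
      _ = c * (n * (c⁻¹ * e * c)) * c⁻¹ := by rw [h4]
      _ = c * n * c⁻¹ * e := by group
  -- `⁅n, a⁆` is central
  have hd : ∀ n ∈ N, ⁅n, a⁆ ∈ U := by
    intro n hn
    obtain ⟨h1, h2, h3⟩ := hNmem.mp hn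
    have hN' : ⁅n, a⁆ ∈ N := by
      have := mul_mem hn (Coprime.conj_mem_of_mem_normalizer (hNC haC) (inv_mem hn))
      simpa [commutatorElement_def, mul_assoc] using this
    obtain ⟨k1, k2, k3⟩ := hNmem.mp hN'
    refine mem_pCore_of_centralizes hO (fun E hE => ?_) k2
    rcases hsep E hE with hBE | hBE
    · exact k3 E hE hBE
    by_cases hBE' : B ≤ Subgroup.centralizer (E : Set G)
    · exact k3 E hE hBE'
    -- now `E` is moved by `B`, hence so are its translates by `C`, which `B'` centralizes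
    have hmoved : ∀ c ∈ C, ∀ e ∈ E, Commute (c * e * c⁻¹) b' := by
      intro c hc e he
      rcases hsep _ (Components.component_map_conj c hE) with h | h
      · refine absurd (fun y hy => ?_) hBE'
        rw [Subgroup.mem_centralizer_iff]
        intro e' he'
        have := Subgroup.mem_centralizer_iff.mp (hperm c⁻¹ (inv_mem hc) _ h hy) e'
          ⟨c * e' * c⁻¹, ⟨e', he', rfl⟩, by simp [mul_assoc]⟩
        exact this
      · exact Subgroup.mem_centralizer_iff.mp (h hb') _ ⟨e, he, rfl⟩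
    have hbC : b ∈ C := hbB hb
    have hnb : Commute b n := Subgroup.mem_centralizer_iff.mp h1 b hb
    have hdeq : ⁅n, a⁆ = b * (n * b' * n⁻¹ * b'⁻¹) * b⁻¹ := by
      rw [commutatorElement_def, hab]
      calc n * (b * b') * n⁻¹ * (b * b')⁻¹ = (n * b) * b' * n⁻¹ * b'⁻¹ * b⁻¹ := by group
        _ = _ := by rw [← hnb.eq]; group
    rw [hdeq, Subgroup.mem_centralizer_iff]
    intro e he
    have c1 : Commute (b⁻¹ * e * b) b' := by simpa using hmoved b⁻¹ (inv_mem hbC) e he
    have c2 : Commute (n⁻¹ * (b⁻¹ * e * b) * n) b' := by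
      have := hmoved (n⁻¹ * b⁻¹) (mul_mem (inv_mem h1) (inv_mem hbC)) e he
      simpa [mul_assoc] using this
    have c3 : Commute (b⁻¹ * e * b) (n * b' * n⁻¹) := by
      have := c2.map (MulAut.conj n).toMonoidHom
      simpa [mul_assoc] using this
    have c4 := (c3.mul_right c1.inv_right).map (MulAut.conj b).toMonoidHom
    simpa [mul_assoc] using c4.eq
  have hcentral : ∀ n ∈ N, ∀ m ∈ N, Commute ⁅n, a⁆ m := fun n hn m hm =>
    Subgroup.mem_centralizer_iff.mp (hNmem.mp hm).2.1 _ (hd n hn)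
  set M : Subgroup G := N ⊓ Subgroup.centralizer ({a} : Set G) with hM
  have hMN : N ≤ Subgroup.normalizer (M : Set G) := by
    refine Coprime.le_normalizer_of_conj_mem fun n hn m hm => Subgroup.mem_inf.mpr
      ⟨mul_mem (mul_mem hn hm.1) (inv_mem hn), ?_⟩
    rw [Subgroup.mem_centralizer_singleton_iff]
    have h1 : n⁻¹ * a * n = ⁅n⁻¹, a⁆ * a := by simp [commutatorElement_def, mul_assoc]
    have h2 : Commute (n⁻¹ * a * n) m := by
      rw [h1]
      exact Commute.mul_left (hcentral _ (inv_mem hn) m hm.1)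
        (Subgroup.mem_centralizer_singleton_iff.mp hm.2).symm
    have h3 := h2.map (MulAut.conj n).toMonoidHom
    have h4 : Commute a (n * m * n⁻¹) := by simpa [mul_assoc] using h3
    exact h4.eq.symm
  -- the relevant odd normal subgroup of `M`
  set R := Cfsg.centralizerPPrimeCore 2 a ⊓ N with hR
  have hRM : R ≤ M := le_inf inf_le_right
    (inf_le_left.trans (Components.centralizerPPrimeCore_le_centralizer a))
  have hMR : M ≤ Subgroup.normalizer (R : Set G) :=
    Coprime.le_normalizer_inf (inf_le_right.trans (Subgroup.le_normalizer.trans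
        (Components.normalizer_le_normalizer_map_characteristic _ _)))
      (inf_le_left.trans Subgroup.le_normalizer)
  have hNle : N ≤ C := inf_le_left.trans inf_le_left
  have hsub : (R.subgroupOf C).IsSubnormal := by
    refine Subgroup.IsSubnormal.step _ (M.subgroupOf C) (Subgroup.comap_mono hRM) ?_
      ((Subgroup.normal_subgroupOf_iff_le_normalizer (Subgroup.comap_mono hRM)).mpr
        ((Subgroup.comap_mono hMR).trans (Subgroup.le_normalizer_comap _)))
    refine Subgroup.IsSubnormal.step _ (N.subgroupOf C) (Subgroup.comap_mono inf_le_left)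
      (((Subgroup.normal_subgroupOf_iff_le_normalizer hNle).mpr hNC).isSubnormal)
      ((Subgroup.normal_subgroupOf_iff_le_normalizer (Subgroup.comap_mono inf_le_left)).mpr
        ((Subgroup.comap_mono hMN).trans (Subgroup.le_normalizer_comap _)))
  have hcard : (Nat.card ↥(R.subgroupOf C)).Coprime 2 := by
    rw [Nat.card_congr (Subgroup.subgroupOfEquivOfLe (inf_le_right.trans hNle)).toEquiv]
    exact (Components.centralizerPPrimeCore_coprime (p := 2) a).coprime_dvd_left
      (Subgroup.card_dvd_of_le inf_le_left)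
  have hxN : x ∈ N := hNmem.mpr ⟨hxB,
    ((Components.centralizerPPrimeCore_le_localLayerCover (p := 2) a).trans
      (Components.localLayerCover_le_centralizer_pCore
        (IsPGroup.of_card (n := 1) (by rw [Nat.card_zpowers, ha, pow_one])))) hx, hxE⟩
  exact ⟨⟨x, hxB⟩, Thompson.le_pPrimeCore_of_isSubnormal hsub hcard ⟨hx, hxN⟩, rfl⟩

end CoreFree

section Pair

variable {G : Type u} [Group G] [Finite G]

/-- Centralizers of `2`-subgroups lift through `H → H / O(H)`. -/
theorem exists_lift_centralizer {H : Type u} [Group H] [Finite H] (B : Subgroup H) (hB : IsPGroup 2 B)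
    {y : H ⧸ Cfsg.pPrimeCore 2 H}
    (hy : y ∈ Subgroup.centralizer (B.map (QuotientGroup.mk' (Cfsg.pPrimeCore 2 H)) : Set _)) :
    ∃ k ∈ Subgroup.centralizer (B : Set H), QuotientGroup.mk' (Cfsg.pPrimeCore 2 H) k = y := by
  haveI : Fact (Nat.Prime 2) := ⟨Nat.prime_two⟩
  obtain ⟨k, rfl⟩ := QuotientGroup.mk'_surjective _ y
  obtain ⟨j, hj⟩ := IsPGroup.iff_card.mp hB
  obtain ⟨n, hn, hc⟩ := Coprime.exists_fixed_in_coset_of_normal B (Cfsg.pPrimeCore 2 H)
    (by rw [Subgroup.normalizer_eq_top_iff.mpr inferInstance]; exact le_top)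
    (hj ▸ (Thompson.card_pPrimeCore_coprime (p := 2) (G := H)).symm.pow_left j)
    (Or.inl (Coprime.isSolvable_of_isNilpotent' hB.isNilpotent)) k
    (by rw [Subgroup.normalizer_eq_top_iff.mpr inferInstance]; exact Subgroup.mem_top k)
    (fun b hb => by
      have := Subgroup.mem_centralizer_iff.mp hy _ (Subgroup.mem_map_of_mem _ hb)
      rw [← QuotientGroup.eq_one_iff, ← QuotientGroup.mk'_apply, map_mul, map_mul, map_mul, map_inv,
        map_inv, this]
      group)
  exact ⟨k * n, hc, by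
    rw [map_mul, QuotientGroup.mk'_apply _ n, (QuotientGroup.eq_one_iff n).mpr hn, mul_one]⟩

/-- The image in `H / O(H)` of an odd subgroup of `H` normalized by `C_H(B)`. -/
theorem normalizes_image {H : Type u} [Group H] [Finite H] (B R : Subgroup H) (hB : IsPGroup 2 B)
    (hn : Subgroup.centralizer (B : Set H) ≤ Subgroup.normalizer (R : Set H)) :
    Subgroup.centralizer (B.map (QuotientGroup.mk' (Cfsg.pPrimeCore 2 H)) : Set _) ≤
      Subgroup.normalizer
        ((R.map (QuotientGroup.mk' (Cfsg.pPrimeCore 2 H)) : Subgroup (H ⧸ Cfsg.pPrimeCore 2 H)) :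
          Set (H ⧸ Cfsg.pPrimeCore 2 H)) := by
  refine Coprime.le_normalizer_of_conj_mem fun y hy z hz => ?_
  obtain ⟨k, hk, rfl⟩ := exists_lift_centralizer B hB hy
  obtain ⟨r, hr, rfl⟩ := hz
  exact ⟨k * r * k⁻¹, Coprime.conj_mem_of_mem_normalizer (hn hk) hr, by simp⟩

theorem map_mem_core {a : G} (ha : orderOf a = 2) (H : Subgroup G) (hah : a ∈ H)
    {x : ↥H} (hx : (x : G) ∈ Cfsg.centralizerPPrimeCore 2 a) :
    QuotientGroup.mk' (Cfsg.pPrimeCore 2 ↥H) x ∈
      Cfsg.centralizerPPrimeCore 2 (QuotientGroup.mk' (Cfsg.pPrimeCore 2 ↥H) ⟨a, hah⟩) := by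
  haveI : Fact (Nat.Prime 2) := ⟨Nat.prime_two⟩
  set π := QuotientGroup.mk' (Cfsg.pPrimeCore 2 ↥H) with hπ
  set O := Cfsg.centralizerPPrimeCore 2 a with hO
  have hOC : O ≤ Subgroup.centralizer ({a} : Set G) := Components.centralizerPPrimeCore_le_centralizer a
  set D := (O.subgroupOf H).map π with hD
  have hDC : D ≤ Subgroup.centralizer ({π ⟨a, hah⟩} : Set _) := by
    rintro _ ⟨y, hy, rfl⟩
    rw [Subgroup.mem_centralizer_singleton_iff, ← map_mul, ← map_mul]
    exact congrArg π (Subtype.ext (Subgroup.mem_centralizer_singleton_iff.mp (hOC hy)))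
  have hCD : Subgroup.centralizer ({π ⟨a, hah⟩} : Set _) ≤ Subgroup.normalizer (D : Set _) := by
    have h2 : IsPGroup 2 (Subgroup.zpowers (⟨a, hah⟩ : H)) :=
      IsPGroup.of_card (n := 1) (by rw [Nat.card_zpowers, Subgroup.orderOf_mk, ha, pow_one])
    refine le_trans ?_ (normalizes_image (Subgroup.zpowers (⟨a, hah⟩ : H)) _ h2 ?_)
    · rw [MonoidHom.map_zpowers, Subgroup.zpowers_eq_closure, Subgroup.centralizer_closure]
    · refine le_trans (fun c hc => ?_) (Subgroup.le_normalizer_comap _)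
      show (c : G) ∈ Subgroup.normalizer (O : Set G)
      refine Components.normalizer_le_normalizer_map_characteristic _ _ (Subgroup.le_normalizer ?_)
      rw [Subgroup.mem_centralizer_singleton_iff]
      exact (congrArg Subtype.val
        (Subgroup.mem_centralizer_iff.mp hc _ (Subgroup.mem_zpowers _))).symm
  exact Components.le_centralizerPPrimeCore hDC
    (((Subgroup.normal_subgroupOf_iff_le_normalizer hDC).mpr hCD).isSubnormal)
    ((Components.centralizerPPrimeCore_coprime (p := 2) a).coprime_dvd_left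
      ((Subgroup.card_map_dvd _ _).trans
        (Subgroup.card_comap_dvd_of_injective O H.subtype H.subtype_injective)))
    ⟨x, hx, rfl⟩

section Functor

/-- One factor of the signalizer. -/
def sepPart (B : Subgroup G) (a : G) : Subgroup G :=
  ⁅Cfsg.centralizerPPrimeCore 2 a, B⁆ ⊔
    (Cfsg.centralizerPPrimeCore 2 a ⊓
      (Cfsg.oddCore ↥(Subgroup.centralizer (B : Set G))).map
        (Subgroup.centralizer (B : Set G)).subtype)

/-- In each `C(h)/O(C(h))`, `h ∈ (B ⊔ B')#`, every component is centralized by `B` or by `B'`. -/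
def Separated (B B' : Subgroup G) : Prop :=
  ∀ h ∈ B ⊔ B', h ≠ 1 →
    ∀ E : Subgroup (↥(Subgroup.centralizer ({h} : Set G)) ⧸
      Cfsg.pPrimeCore 2 ↥(Subgroup.centralizer ({h} : Set G))), Cfsg.IsComponent E →
    (B.subgroupOf (Subgroup.centralizer ({h} : Set G))).map (QuotientGroup.mk' _) ≤
      Subgroup.centralizer (SetLike.coe E) ∨
    (B'.subgroupOf (Subgroup.centralizer ({h} : Set G))).map (QuotientGroup.mk' _) ≤
      Subgroup.centralizer (SetLike.coe E)

/-- `⁅S, B⁆` centralizes the components centralized by `B`. -/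
theorem commutator_le_centralizer_component (hO : Cfsg.pPrimeCore 2 G = ⊥) {a : G} (ha : orderOf a = 2)
    {S B E : Subgroup G} (hS : S ≤ Cfsg.centralizerPPrimeCore 2 a) (hE : Cfsg.IsComponent E)
    (hBE : B ≤ Subgroup.centralizer (E : Set G)) : ⁅S, B⁆ ≤ Subgroup.centralizer (E : Set G) := by
  have h1 : ⁅⁅B, E⁆, S⁆ = ⊥ := by
    rw [Subgroup.commutator_eq_bot_iff_le_centralizer.mpr hBE, Subgroup.commutator_bot_left]
  have h2 : ⁅⁅E, S⁆, B⁆ = ⊥ := by
    rw [Subgroup.commutator_eq_bot_iff_le_centralizer]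
    refine (Coprime.commutator_le_of_le_normalizer fun s hs =>
      mem_normalizer_component hO ha (hS hs) hE).trans ?_
    exact Subgroup.le_centralizer_iff.mp hBE
  have h3 : ⁅⁅S, B⁆, E⁆ = ⊥ := Subgroup.commutator_commutator_eq_bot_of_rotate h1 h2
  exact Subgroup.commutator_eq_bot_iff_le_centralizer.mp h3

variable {B B' : Subgroup G}

theorem le_centralizer_of_mem (hB : Cfsg.IsElementaryAbelian 2 B)
    (hB' : Cfsg.IsElementaryAbelian 2 B') (hBB : ∀ x ∈ B, ∀ y ∈ B', x * y = y * x) :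
    ∀ h ∈ B ⊔ B', B ⊔ B' ≤ Subgroup.centralizer ({h} : Set G) := by
  intro h hh
  have hc : ∀ c : G, (∀ x ∈ B, Commute c x) → (∀ y ∈ B', Commute c y) →
      B ⊔ B' ≤ Subgroup.centralizer ({c} : Set G) := fun c h1 h2 => sup_le
    (fun x hx => Subgroup.mem_centralizer_singleton_iff.mpr (h1 x hx).eq.symm)
    (fun y hy => Subgroup.mem_centralizer_singleton_iff.mpr (h2 y hy).eq.symm)
  have hb : ∀ c ∈ B, B ⊔ B' ≤ Subgroup.centralizer ({c} : Set G) := fun c hcB => hc c
    (fun x hx => congrArg Subtype.val (hB.1.is_comm.comm (⟨c, hcB⟩ : B) ⟨x, hx⟩))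
    (fun y hy => hBB c hcB y hy)
  have hb' : ∀ c ∈ B', B ⊔ B' ≤ Subgroup.centralizer ({c} : Set G) := fun c hcB => hc c
    (fun x hx => (hBB x hx c hcB).symm)
    (fun y hy => congrArg Subtype.val (hB'.1.is_comm.comm (⟨c, hcB⟩ : B') ⟨y, hy⟩))
  refine hc h (fun x hx => ?_) (fun y hy => ?_)
  · exact Subgroup.mem_centralizer_singleton_iff.mp (hb x hx hh)
  · exact Subgroup.mem_centralizer_singleton_iff.mp (hb' y hy hh)

theorem orderOf_eq_two (hB : Cfsg.IsElementaryAbelian 2 B)
    (hB' : Cfsg.IsElementaryAbelian 2 B') (hBB : ∀ x ∈ B, ∀ y ∈ B', x * y = y * x)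
    {h : G} (hh : h ∈ B ⊔ B') (h1 : h ≠ 1) : orderOf h = 2 := by
  haveI : Fact (Nat.Prime 2) := ⟨Nat.prime_two⟩
  obtain ⟨b, hb, b', hb', rfl⟩ := Coprime.exists_mul_of_mem_sup
    ((fun y hy => Subgroup.centralizer_le_normalizer _ (Subgroup.mem_centralizer_iff.mpr
      fun x hx => hBB x hx y hy)) : B' ≤ Subgroup.normalizer (B : Set G)) hh
  refine orderOf_eq_prime ?_ h1
  rw [Commute.mul_pow (hBB b hb b' hb'), hB.2 b hb, hB'.2 b' hb', one_mul]

theorem centralizerPPrimeCore_conj_mem {a c x : G} (hc : c ∈ Subgroup.centralizer ({a} : Set G))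
    (hx : x ∈ Cfsg.centralizerPPrimeCore 2 a) : c * x * c⁻¹ ∈ Cfsg.centralizerPPrimeCore 2 a :=
  Coprime.conj_mem_of_mem_normalizer
    (Components.normalizer_le_normalizer_map_characteristic _ _ (Subgroup.le_normalizer hc)) hx

/-- `C_Y(B) ≤ O(C(B))` for `Y = ⁅O(C(a)), B⁆`. -/
theorem commutator_inf_centralizer_le (hFT : OddOrderGlue.FeitThompson.{u})
    (hB : Cfsg.IsElementaryAbelian 2 B) (hB' : Cfsg.IsElementaryAbelian 2 B')
    (hcard : Nat.card B = 4) (hBB : ∀ x ∈ B, ∀ y ∈ B', x * y = y * x) (hsep : Separated B B')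
    {a : G} (haA : a ∈ B ⊔ B') (ha1 : a ≠ 1) :
    ⁅Cfsg.centralizerPPrimeCore 2 a, B⁆ ⊓ Subgroup.centralizer (B : Set G) ≤
      (Cfsg.oddCore ↥(Subgroup.centralizer (B : Set G))).map
        (Subgroup.centralizer (B : Set G)).subtype := by
  haveI : Fact (Nat.Prime 2) := ⟨Nat.prime_two⟩
  haveI := hB.1
  set O := Cfsg.centralizerPPrimeCore 2 a with hO
  set Y := ⁅O, B⁆ with hY
  have ha := orderOf_eq_two hB hB' hBB haA ha1
  have hBa : B ≤ Subgroup.centralizer ({a} : Set G) :=
    le_sup_left.trans (le_centralizer_of_mem hB hB' hBB a haA)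
  have hBO : B ≤ Subgroup.normalizer (O : Set G) := Coprime.le_normalizer_of_conj_mem fun b hb x hx =>
    centralizerPPrimeCore_conj_mem (hBa hb) hx
  have hBp : IsPGroup 2 B := IsPGroup.of_card (n := 2) hcard
  have hcopO : (Nat.card B).Coprime (Nat.card O) := by
    rw [hcard, show (4 : ℕ) = 2 ^ 2 from rfl]
    exact (Components.centralizerPPrimeCore_coprime (p := 2) a).symm.pow_left 2
  have hBsol : Group.IsSolvable B := Coprime.isSolvable_of_isNilpotent' hBp.isNilpotent
  have hYO : Y ≤ O := Coprime.commutator_le_of_le_normalizer hBO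
  have hYB : ⁅Y, B⁆ = Y := Coprime.commutator_commutator_eq B O hBO hcopO (Or.inl hBsol)
  have hYodd : Odd (Nat.card Y) := Nat.coprime_two_right.mp
    ((Components.centralizerPPrimeCore_coprime (p := 2) a).coprime_dvd_left
      (Subgroup.card_dvd_of_le hYO))
  rw [inf_centralizer_eq_fixedGen hB.1 le_rfl (hFT Y hYodd)
    (Coprime.le_normalizer_commutator_right B O) (hcopO.coprime_dvd_right (Subgroup.card_dvd_of_le hYO))
    hYB]
  refine iSup₂_le fun B₀ hB₀ => ?_
  -- a non-trivial element of `B₀`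
  obtain ⟨a₁, ha₁, ha₁1⟩ : ∃ a₁ ∈ B₀, a₁ ≠ 1 := by
    by_contra hcon
    push Not at hcon
    obtain ⟨-, g, hg, hsup⟩ := hB₀
    rw [show B₀ = ⊥ from le_bot_iff.mp fun y hy => Subgroup.mem_bot.mpr (hcon y hy), bot_sup_eq] at hsup
    have h2 : orderOf g ∣ 2 := orderOf_dvd_of_pow_eq_one (hB.2 g hg)
    have h4 : orderOf g = 4 := by rw [← Nat.card_zpowers, hsup, hcard]
    rw [h4] at h2
    norm_num at h2
  have ha₁B : a₁ ∈ B := hB₀.1 ha₁
  set H := Subgroup.centralizer ({a₁} : Set G) with hH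
  have hAH : B ⊔ B' ≤ H := le_centralizer_of_mem hB hB' hBB a₁ (Subgroup.mem_sup_left ha₁B)
  set S := O ⊓ H with hS
  have hB₀S : ⁅Y ⊓ Subgroup.centralizer (B₀ : Set G), B⁆ ≤ ⁅S, B⁆ :=
    Subgroup.commutator_mono (le_inf (inf_le_left.trans hYO) (inf_le_right.trans
      (fun y hy => Subgroup.mem_centralizer_singleton_iff.mpr
        (Subgroup.mem_centralizer_iff.mp hy a₁ ha₁).symm))) le_rfl
  intro x hx
  have hxS := hB₀S hx.2
  have hxB : x ∈ Subgroup.centralizer (B : Set G) := hx.1.2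
  have hBS : B ≤ Subgroup.normalizer (S : Set G) := Coprime.le_normalizer_inf hBO
    ((le_sup_left.trans hAH).trans Subgroup.le_normalizer)
  have hxSS : x ∈ S := Coprime.commutator_le_of_le_normalizer hBS hxS
  set π := QuotientGroup.mk' (Cfsg.pPrimeCore 2 ↥H) with hπ
  have haH : a ∈ H := hAH haA
  have hOQ : Cfsg.pPrimeCore 2 (↥H ⧸ Cfsg.pPrimeCore 2 ↥H) = ⊥ :=
    Thompson.pPrimeCore_quotient_pPrimeCore
  have hpa : orderOf (π ⟨a, haH⟩) = 2 := by
    refine orderOf_eq_prime ?_ fun e => ?_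
    · rw [← map_pow, show (⟨a, haH⟩ : H) ^ 2 = 1 from Subtype.ext (ha ▸ pow_orderOf_eq_one a), map_one]
    · have hd := Nat.eq_one_of_dvd_coprimes (Thompson.card_pPrimeCore_coprime (p := 2) (G := ↥H))
        (Subgroup.orderOf_dvd_natCard _ ((QuotientGroup.eq_one_iff _).mp e))
        (dvd_of_eq (by rw [Subgroup.orderOf_mk, ha]))
      rw [Subgroup.orderOf_mk, ha] at hd
      omega
  obtain ⟨b, hb, b', hb', hab⟩ := Coprime.exists_mul_of_mem_sup
    ((fun y hy => Subgroup.centralizer_le_normalizer _ (Subgroup.mem_centralizer_iff.mpr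
      fun x hx => hBB x hx y hy)) : B' ≤ Subgroup.normalizer (B : Set G)) haA
  set Bq := (B.subgroupOf H).map π with hBq
  set Bq' := (B'.subgroupOf H).map π with hBq'
  have hmemq : ∀ y (hy : y ∈ B), π ⟨y, hAH (Subgroup.mem_sup_left hy)⟩ ∈ Bq := fun y hy =>
    Subgroup.mem_map_of_mem _ (show (⟨y, hAH (Subgroup.mem_sup_left hy)⟩ : H) ∈ B.subgroupOf H from hy)
  have hcommq : ∀ C : Subgroup G, (∀ x ∈ B, ∀ y ∈ C, x * y = y * x) →
      (C.subgroupOf H).map π ≤ Subgroup.centralizer (SetLike.coe Bq) := by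
    rintro C hC _ ⟨y, hy, rfl⟩
    rw [Subgroup.mem_centralizer_iff]
    rintro _ ⟨z, hz, rfl⟩
    rw [← map_mul, ← map_mul]
    exact congrArg π (Subtype.ext (hC _ hz _ hy))
  have hxq : π ⟨x, hxSS.2⟩ ∈ (Cfsg.oddCore ↥(Subgroup.centralizer (SetLike.coe Bq))).map
      (Subgroup.centralizer (SetLike.coe Bq)).subtype := by
    refine mem_oddCore_centralizer hOQ (B' := Bq') (hmemq b hb)
      (Subgroup.mem_map_of_mem _ (show (⟨b', hAH (Subgroup.mem_sup_right hb')⟩ : H) ∈ B'.subgroupOf H
        from hb')) (hcommq B fun x hx y hy => congrArg Subtype.val (hB.1.is_comm.comm (⟨x, hx⟩ : B) ⟨y, hy⟩))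
      (hcommq B' hBB) (a := π ⟨a, haH⟩) ?_ hpa
      (hsep a₁ (Subgroup.mem_sup_left ha₁B) ha₁1) (map_mem_core ha H haH hxSS.1) ?_ fun E hE hBE => ?_
    · rw [← map_mul]; exact congrArg π (Subtype.ext hab)
    · rw [Subgroup.mem_centralizer_iff]
      rintro _ ⟨z, hz, rfl⟩
      rw [← map_mul, ← map_mul]
      exact congrArg π (Subtype.ext (Subgroup.mem_centralizer_iff.mp hxB _ hz))
    · have h := commutator_le_centralizer_component hOQ hpa (S := (S.subgroupOf H).map π) (B := Bq)
        (by rintro _ ⟨y, hy, rfl⟩; exact map_mem_core ha H haH hy.1) hE hBE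
      refine h ?_
      rw [hBq, ← Subgroup.map_commutator]
      refine Subgroup.mem_map_of_mem _ ?_
      have h2 : ⁅S.subgroupOf H, B.subgroupOf H⁆.map H.subtype = ⁅S, B⁆ := by
        rw [Subgroup.map_commutator, Subgroup.map_subgroupOf_eq_of_le inf_le_right,
          Subgroup.map_subgroupOf_eq_of_le (le_sup_left.trans hAH)]
      rw [← h2] at hxS
      obtain ⟨z, hz, hzx⟩ := hxS
      rwa [show (⟨x, hxSS.2⟩ : H) = z from Subtype.ext hzx.symm]
  -- pull back to `C_G(B)`
  set C := Subgroup.centralizer (B : Set G) with hC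
  have hCH : C ≤ H := fun y hy => Subgroup.mem_centralizer_singleton_iff.mpr
    (Subgroup.mem_centralizer_iff.mp hy a₁ ha₁B).symm
  set W := ((Cfsg.oddCore ↥(Subgroup.centralizer (SetLike.coe Bq))).map
      (Subgroup.centralizer (SetLike.coe Bq)).subtype).comap (π.comp (Subgroup.inclusion hCH)) with hW
  have hWn : W.Normal := by
    refine ⟨fun w hw c => ?_⟩
    simp only [hW, Subgroup.mem_comap, MonoidHom.coe_comp, Function.comp_apply] at hw ⊢
    rw [map_mul, map_mul, map_mul, map_mul, map_inv, map_inv]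
    refine Coprime.conj_mem_of_mem_normalizer
      (Components.normalizer_le_normalizer_map_characteristic (Subgroup.centralizer (SetLike.coe Bq))
        (Cfsg.pPrimeCore 2 _) (Subgroup.le_normalizer ?_)) hw
    rw [Subgroup.mem_centralizer_iff]
    rintro _ ⟨z, hz, rfl⟩
    rw [← map_mul, ← map_mul]
    exact congrArg π (Subtype.ext (Subgroup.mem_centralizer_iff.mp c.2 _ hz))
  have hWc : (Nat.card W).Coprime 2 := by
    set f := (π.comp (Subgroup.inclusion hCH)).comp W.subtype with hf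
    rw [← Subgroup.card_mul_index f.ker, Subgroup.index_ker]
    refine Nat.Coprime.mul_left ?_ ?_
    · refine (Thompson.card_pPrimeCore_coprime (p := 2) (G := ↥H)).coprime_dvd_left ?_
      refine Subgroup.card_dvd_of_injective
        ((((Subgroup.inclusion hCH).comp W.subtype).comp f.ker.subtype).codRestrict
          (Cfsg.pPrimeCore 2 ↥H) fun w => (QuotientGroup.eq_one_iff _).mp w.2) ?_
      intro u v huv
      exact Subtype.ext (Subtype.ext (Subgroup.inclusion_injective hCH (congrArg Subtype.val huv)))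
    · refine (Thompson.card_pPrimeCore_coprime (p := 2)
        (G := ↥(Subgroup.centralizer (SetLike.coe Bq)))).coprime_dvd_left ?_
      refine (Subgroup.card_dvd_of_le ?_).trans (Subgroup.card_map_dvd _
        (Subgroup.centralizer (SetLike.coe Bq)).subtype)
      rintro _ ⟨w, rfl⟩
      exact w.2
  exact ⟨⟨x, hxB⟩, Thompson.le_pPrimeCore hWn hWc (show (⟨x, hxB⟩ : C) ∈ W from hxq), rfl⟩

/-- The part of `sepPart B a` fixed by `B` lies in `O(C(B))`. -/
theorem sepPart_inf_centralizer_le (hFT : OddOrderGlue.FeitThompson.{u})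
    (hB : Cfsg.IsElementaryAbelian 2 B) (hB' : Cfsg.IsElementaryAbelian 2 B')
    (hcard : Nat.card B = 4) (hBB : ∀ x ∈ B, ∀ y ∈ B', x * y = y * x) (hsep : Separated B B')
    {a : G} (haA : a ∈ B ⊔ B') (ha1 : a ≠ 1) :
    sepPart B a ⊓ Subgroup.centralizer (B : Set G) ≤
      (Cfsg.oddCore ↥(Subgroup.centralizer (B : Set G))).map
        (Subgroup.centralizer (B : Set G)).subtype := by
  rintro x ⟨hx, hxB⟩
  obtain ⟨y, hy, z, hz, rfl⟩ := Coprime.exists_mul_of_mem_sup
    (inf_le_left.trans (Coprime.le_normalizer_commutator_left B _)) hx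
  refine mul_mem (commutator_inf_centralizer_le hFT hB hB' hcard hBB hsep haA ha1 ⟨hy, ?_⟩) hz.2
  have hzB : z ∈ Subgroup.centralizer (B : Set G) := Subgroup.map_subtype_le _ hz.2
  have := (Subgroup.centralizer (B : Set G)).mul_mem hxB
    ((Subgroup.centralizer (B : Set G)).inv_mem hzB)
  simpa using this

theorem sepPart_le {a : G} (hBa : B ≤ Subgroup.centralizer ({a} : Set G)) :
    sepPart B a ≤ Cfsg.centralizerPPrimeCore 2 a :=
  sup_le (Coprime.commutator_le_of_le_normalizer (Coprime.le_normalizer_of_conj_mem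
    fun _ hb _ hx => centralizerPPrimeCore_conj_mem (hBa hb) hx)) inf_le_left

theorem sepPart_conj_mem {a c : G} (hca : c ∈ Subgroup.centralizer ({a} : Set G))
    (hcB : c ∈ Subgroup.centralizer (B : Set G)) {x : G} (hx : x ∈ sepPart B a) :
    c * x * c⁻¹ ∈ sepPart B a := by
  refine (sup_le ?_ ?_ : sepPart B a ≤ (sepPart B a).comap ((MulAut.conj c : G ≃* G) : G →* G)) hx
  · refine Subgroup.commutator_le.mpr fun u hu b hb => ?_
    show c * ⁅u, b⁆ * c⁻¹ ∈ sepPart B a
    have hcb : c * b * c⁻¹ = b := by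
      rw [← Subgroup.mem_centralizer_iff.mp hcB b hb, mul_inv_cancel_right]
    have := Subgroup.commutator_mem_commutator (centralizerPPrimeCore_conj_mem hca hu) hb
    rw [← hcb] at this
    exact Subgroup.mem_sup_left (by simpa [commutatorElement_def, mul_assoc] using this)
  · rintro u ⟨hu, hu'⟩
    exact Subgroup.mem_sup_right ⟨centralizerPPrimeCore_conj_mem hca hu,
      Coprime.conj_mem_of_mem_normalizer
        (Components.normalizer_le_normalizer_map_characteristic _ _ (Subgroup.le_normalizer hcB)) hu'⟩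

/-- `sepPart B a ∩ C(h)` centralizes the components of `C(h)/O(C(h))` centralized by `B`. -/
theorem sepPart_centralizes (hFT : OddOrderGlue.FeitThompson.{u})
    (hB : Cfsg.IsElementaryAbelian 2 B) (hB' : Cfsg.IsElementaryAbelian 2 B')
    (hcard : Nat.card B = 4) (hBB : ∀ x ∈ B, ∀ y ∈ B', x * y = y * x) (hsep : Separated B B')
    {a h : G} (haA : a ∈ B ⊔ B') (ha1 : a ≠ 1) (hhA : h ∈ B ⊔ B')
    {x : ↥(Subgroup.centralizer ({h} : Set G))} (hx : (x : G) ∈ sepPart B a)
    {E : Subgroup (↥(Subgroup.centralizer ({h} : Set G)) ⧸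
      Cfsg.pPrimeCore 2 ↥(Subgroup.centralizer ({h} : Set G)))} (hE : Cfsg.IsComponent E)
    (hBE : (B.subgroupOf (Subgroup.centralizer ({h} : Set G))).map (QuotientGroup.mk' _) ≤
      Subgroup.centralizer (SetLike.coe E)) :
    QuotientGroup.mk' _ x ∈ Subgroup.centralizer (SetLike.coe E) := by
  haveI : Fact (Nat.Prime 2) := ⟨Nat.prime_two⟩
  have hAa := le_centralizer_of_mem hB hB' hBB a haA
  have hBH : B ≤ Subgroup.centralizer ({h} : Set G) :=
    le_sup_left.trans (le_centralizer_of_mem hB hB' hBB h hhA)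
  have haH : a ∈ Subgroup.centralizer ({h} : Set G) := le_centralizer_of_mem hB hB' hBB h hhA haA
  have ha := orderOf_eq_two hB hB' hBB haA ha1
  generalize Subgroup.centralizer ({h} : Set G) = H at *
  set S := sepPart B a ⊓ H with hSdef
  have hBS : B ≤ Subgroup.normalizer (S : Set G) := Coprime.le_normalizer_inf
    (Coprime.le_normalizer_of_conj_mem fun b hb y hy => sepPart_conj_mem
      (hAa (Subgroup.mem_sup_left hb)) (Subgroup.mem_centralizer_iff.mpr fun z hz =>
        congrArg Subtype.val (hB.1.is_comm.comm (⟨z, hz⟩ : B) ⟨b, hb⟩)) hy)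
    (hBH.trans Subgroup.le_normalizer)
  have hSO : S ≤ Cfsg.centralizerPPrimeCore 2 a :=
    inf_le_left.trans (sepPart_le (le_sup_left.trans hAa))
  have hcop : (Nat.card B).Coprime (Nat.card S) := by
    rw [hcard, show (4 : ℕ) = 2 ^ 2 from rfl]
    exact ((Components.centralizerPPrimeCore_coprime (p := 2) a).coprime_dvd_left
      (Subgroup.card_dvd_of_le hSO)).symm.pow_left 2
  obtain ⟨u, hu, c, hc, hxuc⟩ := Coprime.exists_commutator_mul_centralizer B S hBS hcop
    (Or.inl (Coprime.isSolvable_of_isNilpotent' (IsPGroup.of_card (n := 2) hcard : IsPGroup 2 B).isNilpotent))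
    (x : G) ⟨hx, x.2⟩
  have huH : u ∈ H := (Coprime.commutator_le_of_le_normalizer hBS hu).2
  set π := QuotientGroup.mk' (Cfsg.pPrimeCore 2 ↥H) with hπ
  have hx' : x = (⟨u, huH⟩ : H) * ⟨c, hc.1.2⟩ := Subtype.ext hxuc
  have hOQ : Cfsg.pPrimeCore 2 (↥H ⧸ Cfsg.pPrimeCore 2 ↥H) = ⊥ :=
    Thompson.pPrimeCore_quotient_pPrimeCore
  have hpa : orderOf (π ⟨a, haH⟩) = 2 := by
    refine orderOf_eq_prime ?_ fun e => ?_
    · rw [← map_pow, show (⟨a, haH⟩ : H) ^ 2 = 1 from Subtype.ext (ha ▸ pow_orderOf_eq_one a), map_one]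
    · have hd := Nat.eq_one_of_dvd_coprimes (Thompson.card_pPrimeCore_coprime (p := 2) (G := ↥H))
        (Subgroup.orderOf_dvd_natCard _ ((QuotientGroup.eq_one_iff _).mp e))
        (dvd_of_eq (by rw [Subgroup.orderOf_mk, ha]))
      rw [Subgroup.orderOf_mk, ha] at hd
      omega
  rw [hx', map_mul]
  refine mul_mem ?_ ?_
  · refine commutator_le_centralizer_component hOQ hpa (S := (S.subgroupOf H).map π)
      (by rintro _ ⟨y, hy, rfl⟩; exact map_mem_core ha H haH (hSO hy)) hE hBE ?_
    rw [← Subgroup.map_commutator]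
    refine Subgroup.mem_map_of_mem _ ?_
    have h2 : ⁅S.subgroupOf H, B.subgroupOf H⁆.map H.subtype = ⁅S, B⁆ := by
      rw [Subgroup.map_commutator, Subgroup.map_subgroupOf_eq_of_le inf_le_right,
        Subgroup.map_subgroupOf_eq_of_le hBH]
    rw [← h2] at hu
    obtain ⟨z, hz, hzu⟩ := hu
    rwa [show (⟨u, huH⟩ : H) = z from Subtype.ext hzu.symm]
  · set OC := (Cfsg.oddCore ↥(Subgroup.centralizer (B : Set G))).map
      (Subgroup.centralizer (B : Set G)).subtype with hOC
    have hcO : c ∈ OC :=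
      sepPart_inf_centralizer_le hFT hB hB' hcard hBB hsep haA ha1 ⟨hc.1.1, hc.2⟩
    set R := (OC.subgroupOf H).map π with hR
    have hBp : IsPGroup 2 (B.subgroupOf H) :=
      (IsPGroup.of_card (n := 2) hcard : IsPGroup 2 B).comap_of_injective _ H.subtype_injective
    have hCR : Subgroup.centralizer (SetLike.coe ((B.subgroupOf H).map π)) ≤
        Subgroup.normalizer (SetLike.coe R) := by
      refine normalizes_image (B.subgroupOf H) (OC.subgroupOf H) hBp
        (le_trans (fun k hk => ?_) (Subgroup.le_normalizer_comap _))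
      show (k : G) ∈ Subgroup.normalizer (OC : Set G)
      refine Components.normalizer_le_normalizer_map_characteristic _ _ (Subgroup.le_normalizer ?_)
      exact Subgroup.mem_centralizer_iff.mpr fun b hb => congrArg Subtype.val
        (Subgroup.mem_centralizer_iff.mp hk ⟨b, hBH hb⟩ hb)
    have hRsol : Group.IsSolvable R := hFT _ (Nat.coprime_two_right.mp
      ((Thompson.card_pPrimeCore_coprime (p := 2)
        (G := ↥(Subgroup.centralizer (B : Set G)))).coprime_dvd_left
        (((Subgroup.card_map_dvd _ _).trans (Subgroup.card_comap_dvd_of_injective OC H.subtype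
          H.subtype_injective)).trans (Subgroup.card_map_dvd _ _))))
    have h := Components.component_commutator_solvable hE hRsol
      ((Subgroup.le_centralizer_iff.mp hBE).trans hCR)
    exact Subgroup.commutator_eq_bot_iff_le_centralizer.mp
      (by rw [Subgroup.commutator_comm]; exact h)
      (Subgroup.mem_map_of_mem _ (show (⟨c, hc.1.2⟩ : H) ∈ OC.subgroupOf H from hcO))

theorem Separated.symm (hsep : Separated B B') : Separated B' B :=
  fun h hh h1 E hE => (hsep h (sup_comm B' B ▸ hh) h1 E hE).symm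

/-- `θ a ∩ C(h) ≤ O(C(h))`. -/
theorem sepPart_inter_le_core (hFT : OddOrderGlue.FeitThompson.{u})
    (hB : Cfsg.IsElementaryAbelian 2 B) (hB' : Cfsg.IsElementaryAbelian 2 B')
    (hcard : Nat.card B = 4) (hcard' : Nat.card B' = 4) (hBB : ∀ x ∈ B, ∀ y ∈ B', x * y = y * x)
    (hsep : Separated B B') {a h : G} (haA : a ∈ B ⊔ B') (ha1 : a ≠ 1) (hhA : h ∈ B ⊔ B')
    (hh1 : h ≠ 1) :
    sepPart B a ⊓ sepPart B' a ⊓ Subgroup.centralizer ({h} : Set G) ≤
      Cfsg.centralizerPPrimeCore 2 h := by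
  rintro x ⟨⟨hx, hx'⟩, hxh⟩
  have haH : a ∈ Subgroup.centralizer ({h} : Set G) := le_centralizer_of_mem hB hB' hBB h hhA haA
  have ha := orderOf_eq_two hB hB' hBB haA ha1
  haveI : Fact (Nat.Prime 2) := ⟨Nat.prime_two⟩
  set H := Subgroup.centralizer ({h} : Set G) with hH
  set π := QuotientGroup.mk' (Cfsg.pPrimeCore 2 ↥H) with hπ
  have hOQ : Cfsg.pPrimeCore 2 (↥H ⧸ Cfsg.pPrimeCore 2 ↥H) = ⊥ :=
    Thompson.pPrimeCore_quotient_pPrimeCore
  have hpa : orderOf (π ⟨a, haH⟩) = 2 := by
    refine orderOf_eq_prime ?_ fun e => ?_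
    · rw [← map_pow, show (⟨a, haH⟩ : H) ^ 2 = 1 from Subtype.ext (ha ▸ pow_orderOf_eq_one a), map_one]
    · have hd := Nat.eq_one_of_dvd_coprimes (Thompson.card_pPrimeCore_coprime (p := 2) (G := ↥H))
        (Subgroup.orderOf_dvd_natCard _ ((QuotientGroup.eq_one_iff _).mp e))
        (dvd_of_eq (by rw [Subgroup.orderOf_mk, ha]))
      rw [Subgroup.orderOf_mk, ha] at hd
      omega
  have hxO : x ∈ Cfsg.centralizerPPrimeCore 2 a :=
    sepPart_le (le_sup_left.trans (le_centralizer_of_mem hB hB' hBB a haA)) hx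
  have h1 : π ⟨x, hxh⟩ = 1 := by
    refine eq_one_of_centralizes hOQ hpa (map_mem_core ha H haH hxO) fun E hE => ?_
    rcases hsep h hhA hh1 E hE with hBE | hBE
    · exact sepPart_centralizes hFT hB hB' hcard hBB hsep haA ha1 hhA
        (x := ⟨x, hxh⟩) hx hE hBE
    · exact sepPart_centralizes hFT hB' hB hcard' (fun u hu v hv => (hBB v hv u hu).symm) hsep.symm
        (sup_comm B B' ▸ haA) ha1 (sup_comm B B' ▸ hhA) (x := ⟨x, hxh⟩) hx' hE hBE
  exact ⟨⟨x, hxh⟩, (QuotientGroup.eq_one_iff _).mp h1, rfl⟩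

theorem sepPart_inter_le (hFT : OddOrderGlue.FeitThompson.{u})
    (hB : Cfsg.IsElementaryAbelian 2 B) (hB' : Cfsg.IsElementaryAbelian 2 B')
    (hcard : Nat.card B = 4) (hcard' : Nat.card B' = 4) (hBB : ∀ x ∈ B, ∀ y ∈ B', x * y = y * x)
    (hsep : Separated B B') {a h : G} (haA : a ∈ B ⊔ B') (ha1 : a ≠ 1) (hhA : h ∈ B ⊔ B')
    (hh1 : h ≠ 1) :
    sepPart B a ⊓ sepPart B' a ⊓ Subgroup.centralizer ({h} : Set G) ≤ sepPart B h := by
  haveI : Fact (Nat.Prime 2) := ⟨Nat.prime_two⟩
  set V := sepPart B a ⊓ sepPart B' a ⊓ Subgroup.centralizer ({h} : Set G) with hV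
  have hAa := le_centralizer_of_mem hB hB' hBB a haA
  have hAh := le_centralizer_of_mem hB hB' hBB h hhA
  have hVO : V ≤ Cfsg.centralizerPPrimeCore 2 h :=
    sepPart_inter_le_core hFT hB hB' hcard hcard' hBB hsep haA ha1 hhA hh1
  have hBV : B ≤ Subgroup.normalizer (V : Set G) := by
    refine Coprime.le_normalizer_inf ?_ ((le_sup_left.trans hAh).trans Subgroup.le_normalizer)
    refine Coprime.le_normalizer_inf ?_ ?_ <;>
      refine Coprime.le_normalizer_of_conj_mem fun b hb y hy => sepPart_conj_mem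
        (hAa (Subgroup.mem_sup_left hb)) (Subgroup.mem_centralizer_iff.mpr fun z hz => ?_) hy
    · exact congrArg Subtype.val (hB.1.is_comm.comm (⟨z, hz⟩ : B) ⟨b, hb⟩)
    · exact (hBB b hb z hz).symm
  have hcop : (Nat.card B).Coprime (Nat.card V) := by
    rw [hcard, show (4 : ℕ) = 2 ^ 2 from rfl]
    exact ((Components.centralizerPPrimeCore_coprime (p := 2) h).coprime_dvd_left
      (Subgroup.card_dvd_of_le hVO)).symm.pow_left 2
  intro x hx
  obtain ⟨u, hu, c, hc, rfl⟩ := Coprime.exists_commutator_mul_centralizer B V hBV hcop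
    (Or.inl (Coprime.isSolvable_of_isNilpotent' (IsPGroup.of_card (n := 2) hcard : IsPGroup 2 B).isNilpotent))
    x hx
  exact Subgroup.mul_mem_sup (Subgroup.commutator_mono hVO le_rfl hu)
    ⟨hVO hc.1, sepPart_inf_centralizer_le hFT hB hB' hcard hBB hsep haA ha1 ⟨hc.1.1.1, hc.2⟩⟩

theorem separated_of_isCoreSeparated (hcs : Cfsg.IsCoreSeparated B B') : Separated B B' := by
  obtain ⟨hB, hB', -, -, -, -, hBB, hK⟩ := hcs
  haveI : Fact (Nat.Prime 2) := ⟨Nat.prime_two⟩
  intro h hh h1 E hE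
  have hAh := le_centralizer_of_mem hB hB' hBB h hh
  have key : ∀ D : Subgroup G, D ≤ Subgroup.centralizer ({h} : Set G) →
      ⁅(Components.pComponentOf 2 E).map (Subgroup.centralizer ({h} : Set G)).subtype, D⁆ ≤
        Cfsg.centralizerPPrimeCore 2 h →
      (D.subgroupOf (Subgroup.centralizer ({h} : Set G))).map (QuotientGroup.mk' _) ≤
        Subgroup.centralizer (SetLike.coe E) := by
    intro D hD hle
    rw [Subgroup.le_centralizer_iff, ← Subgroup.commutator_eq_bot_iff_le_centralizer,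
      ← Components.map_pComponentOf hE, ← Subgroup.map_commutator, Subgroup.map_eq_bot_iff,
      QuotientGroup.ker_mk']
    intro z hz
    have h2 : (z : G) ∈ ⁅(Components.pComponentOf 2 E).map
        (Subgroup.centralizer ({h} : Set G)).subtype, D⁆ := by
      have := Subgroup.mem_map_of_mem (Subgroup.centralizer ({h} : Set G)).subtype hz
      rwa [Subgroup.map_commutator, Subgroup.map_subgroupOf_eq_of_le hD] at this
    obtain ⟨w, hw, hwz⟩ := hle h2
    exact (Subtype.ext hwz : w = z) ▸ hw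
  rcases hK h hh h1 _ (Components.isPComponent_pComponentOf hE) with h2 | h2
  · exact Or.inl (key B (le_sup_left.trans hAh) h2)
  · exact Or.inr (key B' (le_sup_right.trans hAh) h2)

/-- The signalizer functor of a core-separated pair (row 1330, given odd order solvability). -/
theorem isSignalizerFunctor_of_isCoreSeparated (hFT : OddOrderGlue.FeitThompson.{u}) (A₁ A₂ : Subgroup G)
    (hcs : Cfsg.IsCoreSeparated A₁ A₂) :
    Cfsg.IsSignalizerFunctor 2 (A₁ ⊔ A₂) (fun a => sepPart A₁ a ⊓ sepPart A₂ a) := by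
  haveI : Fact (Nat.Prime 2) := ⟨Nat.prime_two⟩
  have hsep := separated_of_isCoreSeparated hcs
  obtain ⟨hB, hB', hc, hc', -, -, hBB, -⟩ := hcs
  have hA := le_centralizer_of_mem hB hB' hBB
  have hle : ∀ a ∈ A₁ ⊔ A₂, sepPart A₁ a ⊓ sepPart A₂ a ≤ Cfsg.centralizerPPrimeCore 2 a :=
    fun a ha => inf_le_left.trans (sepPart_le (le_sup_left.trans (hA a ha)))
  refine ⟨fun a ha _ => (hle a ha).trans (Components.centralizerPPrimeCore_le_centralizer a),
    fun a ha _ h2 => ?_, fun a ha _ b hb x hx => ?_, fun a ha ha1 b hb hb1 => ?_⟩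
  · have h := (Components.centralizerPPrimeCore_coprime (p := 2) a).coprime_dvd_left
      (Subgroup.card_dvd_of_le (hle a ha))
    exact absurd (Nat.eq_one_of_dvd_coprimes h h2 dvd_rfl) (by norm_num)
  · have hmem : ∀ D : Subgroup G, D ≤ A₁ ⊔ A₂ → b ∈ Subgroup.centralizer (D : Set G) := fun D hD =>
      Subgroup.mem_centralizer_iff.mpr fun d hd =>
        Subgroup.mem_centralizer_singleton_iff.mp (hA b hb (hD hd))
    exact ⟨sepPart_conj_mem (hA a ha hb) (hmem _ le_sup_left) hx.1,
      sepPart_conj_mem (hA a ha hb) (hmem _ le_sup_right) hx.2⟩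
  · refine le_inf (sepPart_inter_le hFT hB hB' hc hc' hBB hsep ha ha1 hb hb1) ?_
    show sepPart A₁ a ⊓ sepPart A₂ a ⊓ Subgroup.centralizer ({b} : Set G) ≤ sepPart A₂ b
    rw [inf_comm (sepPart A₁ a)]
    exact sepPart_inter_le hFT hB' hB hc' hc (fun u hu v hv => (hBB v hv u hu).symm) hsep.symm
      (sup_comm A₁ A₂ ▸ ha) ha1 (sup_comm A₁ A₂ ▸ hb) hb1

end Functor



end Pair

end Cfsg.Agent.H25
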