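import Cfsg.Agent.FG72.CocyclicGeneration
import Cfsg.Agent.Lib.Coprime.Action

/-!
Fixed points of `B ≤ A` in a solvable group `Y = ⁅Y, A⁆` under coprime action of an abelian `A`:
`C_Y(B)` is generated by the `C_Y(B) ∩ ⁅C_Y(B₀), A⁆` with `B / B₀` cyclic.
-/

set_option autoImplicit false

namespace Cfsg.Agent.H25

open Cfsg.Agent
open scoped commutatorElement

variable {G : Type*} [Group G] [Finite G]

/-- The candidate generating subgroup. -/
def fixedGen (A B Y : Subgroup G) : Subgroup G :=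
  ⨆ B₀ ∈ FG72.cocyclic B,
    Y ⊓ Subgroup.centralizer (B : Set G) ⊓ ⁅Y ⊓ Subgroup.centralizer (B₀ : Set G), A⁆

omit [Finite G] in
theorem fixedGen_mono {A B Y Z : Subgroup G} (h : Z ≤ Y) : fixedGen A B Z ≤ fixedGen A B Y :=
  iSup₂_le fun B₀ hB₀ => le_trans
    (inf_le_inf (inf_le_inf_right _ h) (Subgroup.commutator_mono (inf_le_inf_right _ h) le_rfl))
    (le_biSup (fun B₀ : Subgroup G =>
      Y ⊓ Subgroup.centralizer (B : Set G) ⊓ ⁅Y ⊓ Subgroup.centralizer (B₀ : Set G), A⁆) hB₀)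

/-- A fixed point in `⁅Y, A⁆ = Y` lies in the derived subgroup. -/
theorem fixed_le_derived (A Y : Subgroup G) (hAY : A ≤ Subgroup.normalizer (Y : Set G))
    (hcop : (Nat.card A).Coprime (Nat.card Y)) (hYA : ⁅Y, A⁆ = Y) :
    Y ⊓ Subgroup.centralizer (A : Set G) ≤ ⁅Y, Y⁆ := by
  cases nonempty_fintype A
  let σ : A → Y →* Y := fun e =>
    { toFun := fun x => ⟨(e : G) * x * (e : G)⁻¹, Coprime.conj_mem_of_mem_normalizer (hAY e.2) x.2⟩
      map_one' := by ext; simp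
      map_mul' := fun x y => by ext; simp [mul_assoc] }
  let ν : Y →* Abelianization Y := ∏ e : A, Abelianization.of.comp (σ e)
  have hν : ∀ x : Y, ν x = ∏ e : A, Abelianization.of (σ e x) := fun x =>
    MonoidHom.finsetProd_apply _ _ _
  have hinv : ∀ (e₀ : A) (x : Y), ν (σ e₀ x) = ν x := fun e₀ x => by
    rw [hν, hν]
    exact Fintype.prod_equiv (Equiv.mulRight e₀) _ _ fun e =>
      congrArg Abelianization.of (by ext; simp [σ, mul_assoc])
  have hker : ⁅Y, A⁆ ≤ ν.ker.map Y.subtype := Subgroup.commutator_le.mpr fun k hk a ha => by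
    refine ⟨⟨k, hk⟩ * σ ⟨a, ha⟩ ⟨k, hk⟩⁻¹, ?_, ?_⟩
    · show ν (⟨k, hk⟩ * σ ⟨a, ha⟩ ⟨k, hk⟩⁻¹) = 1
      rw [map_mul, hinv, map_inv, mul_inv_cancel]
    · simp [σ, commutatorElement_def, mul_assoc]
  rintro x ⟨hx, hxA⟩
  obtain ⟨y, hy, rfl⟩ := hker (hYA.symm ▸ hx)
  have hfix : ∀ e : A, σ e y = y := fun e => Subtype.ext (by
    show (e : G) * (y : G) * (e : G)⁻¹ = y
    rw [show (e : G) * y = y * e from Subgroup.mem_centralizer_iff.mp hxA e e.2]
    simp)
  have hpow : Abelianization.of y ^ Nat.card A = 1 := by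
    rw [← show ν y = 1 from hy, hν]
    simp [hfix]
  have h1 : orderOf (Abelianization.of y) = 1 := Nat.dvd_one.mp (hcop ▸ Nat.dvd_gcd
    (orderOf_dvd_of_pow_eq_one hpow)
    ((orderOf_map_dvd _ y).trans (orderOf_dvd_natCard y)))
  have h2 : y ∈ commutator Y := (QuotientGroup.eq_one_iff y).mp (orderOf_eq_one_iff.mp h1)
  rw [← Subgroup.map_subtype_commutator]
  exact ⟨y, h2, rfl⟩

theorem inf_centralizer_le_fixedGen_aux {A B : Subgroup G} (hA : IsMulCommutative A) (hB : B ≤ A)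
    (n : ℕ) : ∀ Y : Subgroup G, Nat.card Y = n → Group.IsSolvable Y →
      A ≤ Subgroup.normalizer (Y : Set G) → (Nat.card A).Coprime (Nat.card Y) → ⁅Y, A⁆ = Y →
      Y ⊓ Subgroup.centralizer (B : Set G) ≤ fixedGen A B Y := by
  induction n using Nat.strong_induction_on with
  | _ n IH =>
  intro Y hn hsY hAY hcop hYA
  set X := fixedGen A B Y with hXdef
  set CA := Subgroup.centralizer (A : Set G) with hCAdef
  have hAsol : ∀ B₀ ≤ A, Group.IsSolvable B₀ := fun B₀ h =>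
    Coprime.solvable_of_le h (Group.isSolvable_of_comm hA.is_comm.comm : Group.IsSolvable A)
  have hAcent : ∀ {B₀ : Subgroup G}, B₀ ≤ A → A ≤ Subgroup.centralizer (B₀ : Set G) :=
    fun h a ha => Subgroup.mem_centralizer_iff.mpr fun b hb =>
      congrArg Subtype.val (hA.is_comm.comm (⟨b, h hb⟩ : A) ⟨a, ha⟩)
  have hcopY : ∀ {K : Subgroup G}, K ≤ Y → (Nat.card A).Coprime (Nat.card K) :=
    fun h => hcop.coprime_dvd_right (Subgroup.card_dvd_of_le h)
  -- the pieces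
  have hC₀ : ∀ {B₀ : Subgroup G}, B₀ ≤ A →
      A ≤ Subgroup.normalizer ((Y ⊓ Subgroup.centralizer (B₀ : Set G) : Subgroup G) : Set G) :=
    fun h => Coprime.le_normalizer_inf hAY ((hAcent h).trans Subgroup.le_normalizer)
  -- `⁅C_Y(B), A⁆` is in the candidate
  have hBB : B ∈ FG72.cocyclic B := ⟨le_rfl, 1, B.one_mem, by simp⟩
  have hBX : ⁅Y ⊓ Subgroup.centralizer (B : Set G), A⁆ ≤ X :=
    le_trans (le_inf (Coprime.commutator_le_of_le_normalizer (hC₀ hB)) le_rfl)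
      (le_biSup (fun B₀ : Subgroup G =>
        Y ⊓ Subgroup.centralizer (B : Set G) ⊓ ⁅Y ⊓ Subgroup.centralizer (B₀ : Set G), A⁆) hBB)
  suffices hsuff : Y ⊓ CA ≤ X by
    intro c hc
    obtain ⟨x, hx, d, hd, rfl⟩ := Coprime.exists_commutator_mul_centralizer A _ (hC₀ hB)
      (hcopY inf_le_left) (Or.inl (hAsol A le_rfl)) c hc
    exact mul_mem (hBX hx) (hsuff ⟨hd.1.1, hd.2⟩)
  rcases eq_or_ne Y ⊥ with hY1 | hY1
  · rw [hY1, bot_inf_eq]; exact bot_le
  -- the derived subgroup is proper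
  haveI := hsY
  set F := ⁅Y, Y⁆ with hFdef
  haveI : Nontrivial Y := (Subgroup.nontrivial_iff_ne_bot Y).mpr hY1
  have hFY : F < Y := by
    have h := (Subgroup.map_lt_map_iff_of_injective Y.subtype_injective).mpr
      (Group.IsSolvable.commutator_lt_top_of_nontrivial Y)
    rwa [Subgroup.map_subtype_commutator, ← MonoidHom.range_eq_map, Subgroup.range_subtype] at h
  have hYF : Y ≤ Subgroup.normalizer (F : Set G) := Coprime.le_normalizer_commutator_left Y Y
  have hAF : A ≤ Subgroup.normalizer (F : Set G) := Coprime.le_normalizer_of_conj_mem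
    fun a ha x hx => by
      refine ((Subgroup.commutator_le.mpr fun u hu v hv => ?_) :
        F ≤ F.comap ((MulAut.conj a : G ≃* G) : G →* G)) hx
      show a * ⁅u, v⁆ * a⁻¹ ∈ F
      have := Subgroup.commutator_mem_commutator (Coprime.conj_mem_of_mem_normalizer (hAY ha) hu)
        (Coprime.conj_mem_of_mem_normalizer (hAY ha) hv)
      simpa [commutatorElement_def, mul_assoc] using this
  refine le_trans (le_inf (fixed_le_derived A Y hAY hcop hYA) inf_le_right) ?_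
  -- the induction hypothesis applies to `⁅F, A⁆`
  set V := ⁅F, A⁆ with hVdef
  have hVF : V ≤ F := Coprime.commutator_le_of_le_normalizer hAF
  have hVlt : Nat.card V < n := by
    have h1 : V < Y := hVF.trans_lt hFY
    rw [← hn]
    refine lt_of_le_of_ne (Subgroup.card_le_of_le h1.le) fun he => h1.ne ?_
    exact Subgroup.eq_of_le_of_card_ge h1.le he.ge
  have hVX : V ⊓ CA ≤ X :=
    (inf_le_inf_left V (Subgroup.centralizer_le hB)).trans
      ((IH _ hVlt V rfl (Coprime.solvable_of_le (hVF.trans hFY.le) hsY)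
        (Coprime.le_normalizer_commutator_right A F) (hcopY (hVF.trans hFY.le))
        (Coprime.commutator_commutator_eq A F hAF (hcopY hFY.le) (Or.inl (hAsol A le_rfl)))).trans
        (fixedGen_mono (hVF.trans hFY.le)))
  set U := F ⊓ X ⊓ CA with hUdef
  set N := V ⊔ U with hNdef
  have hUV : U ≤ Subgroup.normalizer (V : Set G) :=
    (inf_le_left.trans inf_le_left).trans (Coprime.le_normalizer_commutator_left A F)
  have hNF : N ≤ F := sup_le hVF (inf_le_left.trans inf_le_left)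
  suffices hFN : F ≤ N by
    rintro c ⟨hcF, hcA⟩
    obtain ⟨v, hv, u, hu, rfl⟩ := Coprime.exists_mul_of_mem_sup hUV (hFN hcF)
    refine mul_mem (hVX ⟨hv, ?_⟩) hu.1.2
    have := CA.mul_mem hcA (CA.inv_mem hu.2)
    simpa using this
  -- facts about one piece
  have hpiece : ∀ B₀ ∈ FG72.cocyclic B,
      F ⊓ ⁅Y ⊓ Subgroup.centralizer (B₀ : Set G), A⁆ ≤ N := by
    intro B₀ hB₀ f hf
    set P := ⁅Y ⊓ Subgroup.centralizer (B₀ : Set G), A⁆ with hPdef
    have hAFP : A ≤ Subgroup.normalizer ((F ⊓ P : Subgroup G) : Set G) :=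
      Coprime.le_normalizer_inf hAF (Coprime.le_normalizer_commutator_right _ _)
    obtain ⟨x, hx, c, hc, rfl⟩ := Coprime.exists_commutator_mul_centralizer A (F ⊓ P) hAFP
      (hcopY (inf_le_left.trans hFY.le)) (Or.inl (hAsol A le_rfl)) f hf
    refine Subgroup.mul_mem_sup (Subgroup.commutator_mono inf_le_left le_rfl hx)
      ⟨⟨hc.1.1, ?_⟩, hc.2⟩
    exact le_biSup (fun B₀ : Subgroup G =>
      Y ⊓ Subgroup.centralizer (B : Set G) ⊓ ⁅Y ⊓ Subgroup.centralizer (B₀ : Set G), A⁆) hB₀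
      ⟨⟨hFY.le hc.1.1, Subgroup.centralizer_le hB hc.2⟩, hc.1.2⟩
  have hPC : ∀ {B₀ : Subgroup G}, B₀ ≤ A → ∀ {y : G},
      y ∈ ⁅Y ⊓ Subgroup.centralizer (B₀ : Set G), A⁆ → y ∈ Y ⊓ Subgroup.centralizer (B₀ : Set G) :=
    fun h _ hy => Coprime.commutator_le_of_le_normalizer (hC₀ h) hy
  -- every piece normalises `N`
  have hnorm : ∀ B₀ ∈ FG72.cocyclic B,
      ⁅Y ⊓ Subgroup.centralizer (B₀ : Set G), A⁆ ≤ Subgroup.normalizer (N : Set G) := by
    intro B₀ hB₀
    have h0A : B₀ ≤ A := hB₀.1.trans hB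
    set P := ⁅Y ⊓ Subgroup.centralizer (B₀ : Set G), A⁆ with hPdef
    refine Coprime.le_normalizer_of_conj_mem fun y hy m hm => ?_
    obtain ⟨p, hp, q, hq, rfl⟩ := Coprime.exists_commutator_mul_centralizer B₀ F (h0A.trans hAF)
      ((hcopY hFY.le).coprime_dvd_left (Subgroup.card_dvd_of_le h0A)) (Or.inl (hAsol _ h0A)) m
      (hNF hm)
    have hpN : p ∈ N := Subgroup.mem_sup_left (Subgroup.commutator_mono le_rfl h0A hp)
    have hqN : q ∈ N := by simpa using mul_mem (inv_mem hpN) hm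
    obtain ⟨r, hr, c, hc, rfl⟩ := Coprime.exists_commutator_mul_centralizer A
      (F ⊓ Subgroup.centralizer (B₀ : Set G))
      (Coprime.le_normalizer_inf hAF ((hAcent h0A).trans Subgroup.le_normalizer))
      (hcopY (inf_le_left.trans hFY.le)) (Or.inl (hAsol A le_rfl)) q hq
    have hrF : r ∈ F := hVF (Subgroup.commutator_mono inf_le_left le_rfl hr)
    have hrP : r ∈ P := Subgroup.commutator_mono (inf_le_inf_right _ hFY.le) le_rfl hr
    have hcN : c ∈ N := by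
      simpa using mul_mem (inv_mem (hpiece B₀ hB₀ ⟨hrF, hrP⟩)) hqN
    have hyC := hPC h0A hy
    have hyF : y ∈ Subgroup.normalizer (F : Set G) := hYF hyC.1
    have h1 : y * p * y⁻¹ ∈ ⁅F, B₀⁆ := by
      refine ((Subgroup.commutator_le.mpr fun f hf b hb => ?_) :
        ⁅F, B₀⁆ ≤ (⁅F, B₀⁆).comap ((MulAut.conj y : G ≃* G) : G →* G)) hp
      show y * ⁅f, b⁆ * y⁻¹ ∈ ⁅F, B₀⁆
      have hyb : y * b * y⁻¹ = b := by
        rw [← Subgroup.mem_centralizer_iff.mp hyC.2 b hb, mul_inv_cancel_right]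
      have := Subgroup.commutator_mem_commutator (Coprime.conj_mem_of_mem_normalizer hyF hf) hb
      rw [← hyb] at this
      simpa [commutatorElement_def, mul_assoc] using this
    have h2 : y * r * y⁻¹ ∈ N := hpiece B₀ hB₀
      ⟨Coprime.conj_mem_of_mem_normalizer hyF hrF, P.mul_mem (P.mul_mem hy hrP) (P.inv_mem hy)⟩
    have h3 : ⁅y, c⁆ ∈ N := by
      refine hpiece B₀ hB₀ ⟨?_, ?_⟩
      · exact Subgroup.commutator_mem_commutator hyC.1 (hFY.le hc.1.1)
      · rw [commutatorElement_def, mul_assoc, mul_assoc]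
        refine mul_mem hy ?_
        rw [← mul_assoc]
        exact Coprime.conj_mem_of_mem_normalizer
          (Coprime.le_normalizer_commutator_left A _ ⟨hFY.le hc.1.1, hc.1.2⟩) (inv_mem hy)
    have h4 := mul_mem (Subgroup.mem_sup_left (Subgroup.commutator_mono le_rfl h0A h1) : _ ∈ N)
      (mul_mem h2 (mul_mem h3 hcN))
    simpa [commutatorElement_def, mul_assoc] using h4
  -- the pieces generate `Y`
  have hgen : Y ≤ ⨆ B₀ ∈ FG72.cocyclic B, ⁅Y ⊓ Subgroup.centralizer (B₀ : Set G), A⁆ := by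
    set W := ⨆ B₀ ∈ FG72.cocyclic B, ⁅Y ⊓ Subgroup.centralizer (B₀ : Set G), A⁆ with hWdef
    have hW : ∀ B₀ ∈ FG72.cocyclic B, ⁅Y ⊓ Subgroup.centralizer (B₀ : Set G), A⁆ ≤ W := fun B₀ h =>
      le_biSup (fun B₀ : Subgroup G => ⁅Y ⊓ Subgroup.centralizer (B₀ : Set G), A⁆) h
    have hWn : ∀ H : Subgroup G, (∀ B₀ ∈ FG72.cocyclic B,
        H ≤ Subgroup.normalizer ((⁅Y ⊓ Subgroup.centralizer (B₀ : Set G), A⁆ : Subgroup G) : Set G)) →
        H ≤ Subgroup.normalizer (W : Set G) := fun H hH =>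
      Coprime.le_normalizer_of_conj_mem fun g hg x hx =>
        (iSup₂_le fun B₀ hB₀ y hy => hW B₀ hB₀ (Coprime.conj_mem_of_mem_normalizer (hH B₀ hB₀ hg) hy) :
          W ≤ W.comap ((MulAut.conj g : G ≃* G) : G →* G)) hx
    have hWA : A ≤ Subgroup.normalizer (W : Set G) :=
      hWn A fun B₀ _ => Coprime.le_normalizer_commutator_right _ _
    have hWC : Y ⊓ CA ≤ Subgroup.normalizer (W : Set G) := hWn _ fun B₀ hB₀ =>
      (inf_le_inf_left Y (Subgroup.centralizer_le (hB₀.1.trans hB))).trans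
        (Coprime.le_normalizer_commutator_left _ _)
    have hsup : Y ≤ W ⊔ (Y ⊓ CA) := by
      refine (FG72.le_iSup_cocyclic _ G B Y rfl ?_ (hB.trans hAY)
        (hcop.coprime_dvd_left (Subgroup.card_dvd_of_le hB))).trans (iSup₂_le fun B₀ hB₀ x hx => ?_)
      · exact ⟨⟨fun a b => Subtype.ext
          (congrArg Subtype.val (hA.is_comm.comm (⟨(a : G), hB a.2⟩ : A) ⟨b, hB b.2⟩) : _)⟩⟩
      · obtain ⟨u, hu, c, hc, rfl⟩ := Coprime.exists_commutator_mul_centralizer A _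
          (hC₀ (hB₀.1.trans hB)) (hcopY inf_le_left) (Or.inl (hAsol A le_rfl)) x hx
        exact Subgroup.mul_mem_sup (hW B₀ hB₀ hu) ⟨hc.1.1, hc.2⟩
    intro y hy
    rw [← hYA] at hy
    refine Subgroup.commutator_le.mpr (fun k hk a ha => ?_) hy
    obtain ⟨w, hw, c, hc, rfl⟩ := Coprime.exists_mul_of_mem_sup hWC (hsup hk)
    have hcomm : a * c = c * a := Subgroup.mem_centralizer_iff.mp hc.2 a ha
    have : ⁅w * c, a⁆ = w * (a * w⁻¹ * a⁻¹) := by
      calc ⁅w * c, a⁆ = w * (c * a * c⁻¹) * w⁻¹ * a⁻¹ := by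
            simp [commutatorElement_def, mul_assoc]
        _ = w * (a * w⁻¹ * a⁻¹) := by rw [← hcomm]; simp [mul_assoc]
    rw [this]
    exact mul_mem hw (Coprime.conj_mem_of_mem_normalizer (hWA ha) (inv_mem hw))
  have hYN : Y ≤ Subgroup.normalizer (N : Set G) := hgen.trans (iSup₂_le hnorm)
  -- `Y / N` is abelian
  have hu : ∀ B₀ ∈ FG72.cocyclic B, ∀ u ∈ ⁅Y ⊓ Subgroup.centralizer (B₀ : Set G), A⁆,
      ∀ y ∈ Y, ⁅u, y⁆ ∈ N := by
    intro B₀ hB₀ u hu
    have h0A : B₀ ≤ A := hB₀.1.trans hB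
    have huC := hPC h0A hu
    let S : Subgroup G :=
      { carrier := {y | y ∈ Y ∧ ⁅u, y⁆ ∈ N}
        one_mem' := ⟨Y.one_mem, by simp⟩
        mul_mem' := fun {y z} hy hz => ⟨mul_mem hy.1 hz.1, by
          have := mul_mem hy.2 (Coprime.conj_mem_of_mem_normalizer (hYN hy.1) hz.2)
          simpa [commutatorElement_def, mul_assoc] using this⟩
        inv_mem' := fun {y} hy => ⟨inv_mem hy.1, by
          have := Coprime.conj_mem_of_mem_normalizer' (hYN hy.1) (inv_mem hy.2)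
          simpa [commutatorElement_def, mul_assoc] using this⟩ }
    have hS : ⁅Y, B₀⁆ ≤ S := Subgroup.commutator_le.mpr fun t ht b hb => by
      have hbY : b ∈ Subgroup.normalizer (Y : Set G) := hAY (h0A hb)
      refine ⟨Coprime.commutator_le_of_le_normalizer (h0A.trans hAY)
        (Subgroup.commutator_mem_commutator ht hb), ?_⟩
      have hub : b * u = u * b := Subgroup.mem_centralizer_iff.mp huC.2 b hb
      have hg : ⁅u, t⁻¹⁆ ∈ F := Subgroup.commutator_mem_commutator huC.1 (inv_mem ht)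
      have hm : ⁅⁅u, t⁻¹⁆, b⁆⁻¹ ∈ N := inv_mem
        (Subgroup.mem_sup_left (Subgroup.commutator_mem_commutator hg (h0A hb)))
      have h5 : ⁅u, b * t⁻¹ * b⁻¹⁆ = b * ⁅u, t⁻¹⁆ * b⁻¹ := by
        calc ⁅u, b * t⁻¹ * b⁻¹⁆ = (u * b) * t⁻¹ * (b⁻¹ * u⁻¹) * (b * t * b⁻¹) := by
              simp [commutatorElement_def, mul_assoc]
          _ = (b * u) * t⁻¹ * (b⁻¹ * u⁻¹) * (b * t * b⁻¹) := by rw [hub]
          _ = b * u * t⁻¹ * (u * b)⁻¹ * (b * t * b⁻¹) := by group
          _ = b * u * t⁻¹ * (b * u)⁻¹ * (b * t * b⁻¹) := by rw [hub]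
          _ = b * ⁅u, t⁻¹⁆ * b⁻¹ := by simp [commutatorElement_def, mul_assoc]
      have h6 : ⁅u, ⁅t, b⁆⁆ = ⁅u, t⁆ * (t * ⁅⁅u, t⁻¹⁆, b⁆⁻¹ * t⁻¹) * ⁅u, t⁆⁻¹ := by
        calc ⁅u, ⁅t, b⁆⁆ = ⁅u, t⁆ * t * ⁅u, b * t⁻¹ * b⁻¹⁆ * t⁻¹ := by
              simp [commutatorElement_def, mul_assoc]
          _ = _ := by rw [h5]; simp [commutatorElement_def, mul_assoc]
      rw [h6]
      exact Coprime.conj_mem_of_mem_normalizer
        (hYN (hFY.le (Subgroup.commutator_mem_commutator huC.1 ht)))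
        (Coprime.conj_mem_of_mem_normalizer (hYN ht) hm)
    intro y hy
    obtain ⟨w, hw, z, hz, rfl⟩ := Coprime.exists_commutator_mul_centralizer B₀ Y (h0A.trans hAY)
      (hcop.coprime_dvd_left (Subgroup.card_dvd_of_le h0A)) (Or.inl (hAsol _ h0A)) y hy
    refine (S.mul_mem (hS hw) ⟨hz.1, hpiece B₀ hB₀ ⟨?_, ?_⟩⟩).2
    · exact Subgroup.commutator_mem_commutator huC.1 hz.1
    · rw [commutatorElement_def, mul_assoc, mul_assoc]
      refine mul_mem hu ?_
      rw [← mul_assoc]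
      exact Coprime.conj_mem_of_mem_normalizer
        (Coprime.le_normalizer_commutator_left A _ hz) (inv_mem hu)
  let T : Subgroup G :=
    { carrier := {u | u ∈ Y ∧ ∀ y ∈ Y, ⁅u, y⁆ ∈ N}
      one_mem' := ⟨Y.one_mem, fun y _ => by simp⟩
      mul_mem' := fun {u v} h h' => ⟨mul_mem h.1 h'.1, fun y hy => by
        have := mul_mem (Coprime.conj_mem_of_mem_normalizer (hYN h.1) (h'.2 y hy)) (h.2 y hy)
        simpa [commutatorElement_def, mul_assoc] using this⟩
      inv_mem' := fun {u} h => ⟨inv_mem h.1, fun y hy => by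
        have := Coprime.conj_mem_of_mem_normalizer' (hYN h.1) (inv_mem (h.2 y hy))
        simpa [commutatorElement_def, mul_assoc] using this⟩ }
  have hT : Y ≤ T := hgen.trans (iSup₂_le fun B₀ hB₀ u h =>
    ⟨(hPC (hB₀.1.trans hB) h).1, hu B₀ hB₀ u h⟩)
  exact Subgroup.commutator_le.mpr fun u hu' y hy => (hT hu').2 y hy

/-- `C_Y(B) = ⟨C_Y(B) ∩ ⁅C_Y(B₀), A⁆ : B / B₀ cyclic⟩`. -/
theorem inf_centralizer_eq_fixedGen {A B Y : Subgroup G} (hA : IsMulCommutative A) (hB : B ≤ A)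
    (hsY : Group.IsSolvable Y) (hAY : A ≤ Subgroup.normalizer (Y : Set G))
    (hcop : (Nat.card A).Coprime (Nat.card Y)) (hYA : ⁅Y, A⁆ = Y) :
    Y ⊓ Subgroup.centralizer (B : Set G) = fixedGen A B Y :=
  le_antisymm (inf_centralizer_le_fixedGen_aux hA hB _ Y rfl hsY hAY hcop hYA)
    (iSup₂_le fun _ _ => inf_le_left)

omit [Finite G] in
/-- Cocyclic subgroups give cyclic quotients. -/
theorem isCyclic_quotient_of_cocyclic {B B₀ : Subgroup G} [IsMulCommutative B]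
    (h : B₀ ∈ FG72.cocyclic B) [(B₀.subgroupOf B).Normal] : IsCyclic (B ⧸ B₀.subgroupOf B) := by
  obtain ⟨h0, a, ha, hsup⟩ := h
  refine ⟨⟨QuotientGroup.mk ⟨a, ha⟩, fun x => ?_⟩⟩
  induction x using QuotientGroup.induction_on with
  | H x =>
    have hn : Subgroup.zpowers a ≤ Subgroup.normalizer (B₀ : Set G) :=
      Coprime.le_normalizer_of_conj_mem fun c hc b hb => by
        have hcb : c * b = b * c := congrArg Subtype.val
          (mul_comm' (⟨c, Subgroup.zpowers_le.mpr ha hc⟩ : B) ⟨b, h0 hb⟩)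
        rwa [hcb, mul_inv_cancel_right]
    obtain ⟨b, hb, c, ⟨i, hi⟩, hx⟩ :=
      Coprime.exists_mul_of_mem_sup hn (hsup.symm ▸ x.2 : (x : G) ∈ B₀ ⊔ Subgroup.zpowers a)
    refine ⟨i, ?_⟩
    show (QuotientGroup.mk (⟨a, ha⟩ : B) : B ⧸ B₀.subgroupOf B) ^ i = _
    rw [← QuotientGroup.mk_zpow, QuotientGroup.eq, Subgroup.mem_subgroupOf]
    have hbc : b * c = c * b := congrArg Subtype.val
      (mul_comm' (⟨b, h0 hb⟩ : B) ⟨c, hi ▸ B.zpow_mem ha i⟩)
    have : ((((⟨a, ha⟩ : B) ^ i)⁻¹ * x : B) : G) = b := by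
      simp only [Subgroup.coe_mul, Subgroup.coe_inv, Subgroup.coe_zpow]
      rw [hx, hbc, ← hi, inv_mul_cancel_left]
    rw [this]
    exact hb

end Cfsg.Agent.H25
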