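import Cfsg.Agent.H25.CoreSeparated
import Cfsg.Agent.H25.CommutatorGenerationFT

/-!
Row statements given the solvability of groups of odd order.
-/

set_option autoImplicit false

namespace Cfsg.Agent.H25

universe u

theorem core_separated_signalizer (hFT : OddOrderGlue.FeitThompson.{u}) {G : Type u} [Group G] [Finite G]
    (A₁ A₂ : Subgroup G) (hcs : Cfsg.IsCoreSeparated A₁ A₂) : Cfsg.IsSignalizerFunctor 2 (A₁ ⊔ A₂) (fun a => (⁅Cfsg.centralizerPPrimeCore 2 a, A₁⁆ ⊔ (Cfsg.centralizerPPrimeCore 2 a ⊓ ((Cfsg.oddCore ↥(Subgroup.centralizer ((A₁ : Subgroup G) : Set G))).map (Subgroup.centralizer ((A₁ : Subgroup G) : Set G)).subtype))) ⊓ (⁅Cfsg.centralizerPPrimeCore 2 a, A₂⁆ ⊔ (Cfsg.centralizerPPrimeCore 2 a ⊓ ((Cfsg.oddCore ↥(Subgroup.centralizer ((A₂ : Subgroup G) : Set G))).map (Subgroup.centralizer ((A₂ : Subgroup G) : Set G)).subtype)))) :=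
  isSignalizerFunctor_of_isCoreSeparated hFT A₁ A₂ hcs

end Cfsg.Agent.H25
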